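import Mathlib
import Cfsg.Agent.WTI.Par
import Cfsg.Agent.WTI.Quot
import Cfsg.Agent.Core2.PDefs
import Cfsg.Agent.Gold.IntOdd
import Cfsg.Agent.Grp.Fitting
import Cfsg.Agent.S0205

/-! Weakly closed TI-subgroups: reduction to simple groups (guide 94_timm_10). -/

set_option autoImplicit false
set_option linter.style.haveILetI false

namespace Cfsg.Agent.WTI

open Subgroup Cfsg.Agent.PLocal.Amb

variable {G : Type*} [Group G] [Finite G] {S : Set (Subgroup G)}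

/-- The subgroup generated by the intersections of the points with `K`. -/
def WK (S : Set (Subgroup G)) (K : Subgroup G) : Subgroup G :=
  closure {x | x ∈ K ∧ ∃ A ∈ S, x ∈ A}

omit [Finite G] in
theorem WK_le {K : Subgroup G} : WK S K ≤ K := (closure_le _).2 fun _ hx => hx.1

omit [Finite G] in
theorem inf_le_WK {K A : Subgroup G} (hA : A ∈ S) : A ⊓ K ≤ WK S K := fun _ hx =>
  subset_closure ⟨hx.2, A, hA, hx.1⟩

omit [Finite G] in
theorem TI.WK_normal (h : TI S) (K : Subgroup G) [hK : K.Normal] : (WK S K).Normal := by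
  refine ⟨fun x hx g => ?_⟩
  have : WK S K ≤ cj(g⁻¹, WK S K) := (closure_le _).2 fun y ⟨hy, A, hA, hyA⟩ => by
    rw [SetLike.mem_coe, mem_cj, inv_inv]
    exact subset_closure ⟨hK.conj_mem _ hy g, _, h.conj A hA g, conj_mem_cj g hyA⟩
  have := this hx
  rwa [mem_cj, inv_inv] at this

theorem TI.WK_sq (h : TI S) {K : Subgroup G} (hn : ∀ A ∈ S, ∀ A' ∈ S, A ⊓ K ≤ 𝐍[A']) {x : G}
    (hx : x ∈ WK S K) : x * x = 1 := by
  have hc : ∀ x ∈ {x | x ∈ K ∧ ∃ A ∈ S, x ∈ A}, ∀ y ∈ {x | x ∈ K ∧ ∃ A ∈ S, x ∈ A},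
      x * y = y * x := by
    rintro x ⟨hx, A, hA, hxA⟩ y ⟨hy, A', hA', hyA⟩
    by_cases e : A = A'
    · subst e
      exact h.comm hA hxA hyA
    · exact h.nm_comm hA hA' e ⟨hxA, hn A hA A' hA' ⟨hxA, hx⟩⟩ ⟨hyA, hn A' hA' A hA ⟨hyA, hy⟩⟩
  have hc2 : ∀ x ∈ WK S K, ∀ y ∈ WK S K, x * y = y * x := fun x hx y hy => by
    have := closure_le_centralizer_centralizer _ hx y
      (by
        have : WK S K ≤ centralizer {x | x ∈ K ∧ ∃ A ∈ S, x ∈ A} :=
          (closure_le _).2 fun a ha b hb => hc b hb a ha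
        exact this hy)
    exact this.symm
  induction hx using closure_induction with
  | mem x hx => obtain ⟨-, A, hA, hxA⟩ := hx; exact h.sq A hA x hxA
  | one => simp
  | mul x y hx hy ex ey =>
    calc x * y * (x * y) = x * (y * x) * y := by group
      _ = x * x * (y * y) := by rw [← hc2 x hx y hy]; group
      _ = 1 := by rw [ex, ey, one_mul]
  | inv x hx ex => rw [← mul_inv_rev, ex, inv_one]

/-- If `B` meets the normal subgroup `K` trivially then the elements of `B` are isolated in `K B`. -/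
theorem TI.iso_of_inf (h : TI S) {B K : Subgroup G} [hK : K.Normal] (hB : B ∈ S) (hi : B ⊓ K = ⊥)
    {b g : G} (hb : b ∈ B) (h1 : b ≠ 1) (hg : g * b * g⁻¹ * b⁻¹ ∈ K)
    (hc : b * (g * b * g⁻¹) = g * b * g⁻¹ * b) : g * b * g⁻¹ = b := by
  have k : ∀ x ∈ B, x ∈ K → x = 1 := fun x h1 h2 => by
    have : x ∈ B ⊓ K := ⟨h1, h2⟩
    rwa [hi, mem_bot] at this
  have ha : g * b * g⁻¹ ∈ cj(g, B) := conj_mem_cj g hb
  by_cases e : cj(g, B) = B
  · rw [e] at ha
    exact mul_inv_eq_one.1 (k _ (mul_mem ha (inv_mem hb)) hg)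
  exfalso
  have hA := h.conj B hB g
  have hn : g * b * g⁻¹ ∈ nm cj(g, B) B := ⟨ha, h.mem_norm_of_comm hB hb h1 hc.symm⟩
  obtain ⟨x, hx, hx1⟩ := h.exists_not_mem hB hA (Ne.symm e)
  have e1 : cm(x, g * b * g⁻¹) = x * (g * b * g⁻¹ * b⁻¹) * x⁻¹ * (g * b * g⁻¹ * b⁻¹)⁻¹ := by
    have := h.comm hB hx hb
    calc cm(x, g * b * g⁻¹) = x * (g * b * g⁻¹) * b⁻¹ * (b * x⁻¹) * (g * b * g⁻¹)⁻¹ := by group
      _ = _ := by rw [show b * x⁻¹ = x⁻¹ * b from (show Commute x b from this).inv_left.eq.symm]; group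
  have e2 := k _ (h.cm_mem hA hB hn hx).1 (e1 ▸ mul_mem (hK.conj_mem _ hg x) (inv_mem hg))
  rcases h.phi_eq_one hA hB e hn hx e2 with e3 | e3
  · exact h1 (by simpa [mul_inv_eq_iff_eq_mul] using e3)
  · exact hx1 e3

theorem eq_bot_of_odd' (hF : Cfsg.fittingSubgroup G = ⊥) (N : Subgroup G) [N.Normal]
    (h : Odd (Nat.card N)) : N = ⊥ := by
  by_contra h0
  haveI := S0205.result h
  exact Grp.fitting_inf_ne_bot N h0 (by rw [hF, bot_inf_eq])

omit [Finite G] in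
theorem cm_mem_of_sup {B K : Subgroup G} [hK : K.Normal] (hc : ∀ a ∈ B, ∀ b ∈ B, a * b = b * a)
    {x y : G} (hx : x ∈ K ⊔ B) (hy : y ∈ K ⊔ B) : cm(x, y) ∈ K := by
  have hn : B ≤ 𝐍[K] := le_normalizer_of_normal
  obtain ⟨k, hk, a, ha, rfl⟩ := (mem_sup_of_le_normalizer_left hn).1 hx
  obtain ⟨l, hl, b, hb, rfl⟩ := (mem_sup_of_le_normalizer_left hn).1 hy
  rw [← QuotientGroup.eq_one_iff]
  have e1 := (QuotientGroup.eq_one_iff k).2 hk
  have e2 := (QuotientGroup.eq_one_iff l).2 hl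
  have e3 := congrArg (QuotientGroup.mk (s := K)) (hc a ha b hb)
  simp only [QuotientGroup.mk_mul, QuotientGroup.mk_inv, e1, e2, one_mul] at e3 ⊢
  rw [e3]; group

/-- Points meet every non-trivial normal subgroup. -/
theorem TI.inf_ne_bot (h : TI S) (hg : ∀ X : Subgroup G, (∀ P ∈ S, P ≤ X) → X = ⊤)
    (hF : Cfsg.fittingSubgroup G = ⊥) {K B : Subgroup G} [hK : K.Normal] (h1 : K ≠ ⊥) (hB : B ∈ S) :
    B ⊓ K ≠ ⊥ := fun hi => by
  have hO : Bender.Opp 2 K = ⊥ := by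
    haveI : (Bender.Opp 2 K).Normal := normalizer_eq_top_iff.1 (eq_top_iff.2
      (le_trans le_normalizer_of_normal Bender.normalizer_le_normalizer_Opp))
    exact eq_bot_of_odd' hF _ (Core2.odd_card_Opp K)
  have hc : 𝐂[K] = ⊤ := hg _ fun P hP b hb k hk => by
    obtain ⟨g, rfl⟩ := h.cls B hB P hP
    have hi' : cj(g, B) ⊓ K = ⊥ := by rw [← cj_of_normal g K, ← cj_inf, hi, cj_bot]
    by_cases hb1 : b = 1
    · simp [hb1]
    have hz := Core2.zstar_amb (N := K ⊔ cj(g, B)) (mem_sup_right hb) ⟨hb1, h.sq _ hP b hb⟩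
      (fun x hx hc => h.iso_of_inf hP hi' hb hb1
        (cm_mem_of_sup (fun a ha b hb => h.comm hP ha hb) hx (mem_sup_right hb)) hc)
      (mem_sup_left hk)
    have hle : Bender.Opp 2 (K ⊔ cj(g, B)) ⊓ K ≤ Bender.Opp 2 K :=
      Bender.le_Opp_of_normal inf_le_right
        (le_normalizer_inf ((le_sup_left.trans le_normalizer).trans
          Bender.normalizer_le_normalizer_Opp) le_normalizer)
        (Nat.Coprime.coprime_dvd_left (card_dvd_of_le inf_le_left) Bender.coprime_card_Opp)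
    have := hle ⟨hz, K.mul_mem (hK.conj_mem _ hk b) (K.inv_mem hk)⟩
    rw [hO, mem_bot, mul_inv_eq_one, mul_inv_eq_iff_eq_mul] at this
    exact this.symm
  have : K ≤ center G := fun k hk => mem_center_iff.2 fun g =>
    ((hc ▸ mem_top g : g ∈ 𝐂[K]) k hk).symm
  exact h1 (le_bot_iff.1 (hF ▸ this.trans Grp.center_le_fitting))

/-- If `G / K` is abelian and `1 ≠ B ∩ K ≠ B` then `B ∩ K` normalises all points. -/
theorem TI.inf_le_norm (h : TI S) {K B A : Subgroup G} [hK : K.Normal] (hc : ∀ x y : G, cm(x, y) ∈ K)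
    (hB : B ∈ S) (h1 : B ⊓ K ≠ ⊥) (h2 : ¬ B ≤ K) (hA : A ∈ S) : B ⊓ K ≤ 𝐍[A] := by
  by_cases e : A = B
  · exact e ▸ inf_le_left.trans le_normalizer
  have k1 : ∀ P ∈ S, ∀ b ∈ P, b ∉ K → b ∈ Bx S P := fun P hP b hb hb1 => ⟨hb, fun P' hP' hn => by
    by_contra e'
    obtain ⟨x, hx, hx1⟩ := h.exists_not_mem hP hP' (Ne.symm e')
    obtain ⟨a, -, rfl⟩ := h.phi_surj hP' hP e' hx hx1 ⟨hb, hn⟩
    exact hb1 (hc _ _)⟩
  obtain ⟨b0, hb0, hb1⟩ := SetLike.not_le_iff_exists.1 h2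
  obtain ⟨g, rfl⟩ := h.cls B hB A hA
  have ha1 : g * b0 * g⁻¹ ∉ K := fun e => hb1 (by simpa [mul_assoc] using hK.conj_mem' _ e g)
  have ha := k1 _ hA _ (conj_mem_cj g hb0) ha1
  refine h.le_norm_of_Bx hB (lt_of_le_of_ne inf_le_left fun e => h2 (e ▸ inf_le_right)) h1
    (fun b hb => ⟨fun hx hb2 => ?_, fun hx => k1 B hB b hb fun e => hx ⟨hb, e⟩⟩) hA
  obtain ⟨y, -, hy⟩ := dih_odd (h.sq B hB b hb) (h.sq _ hA _ ha.1) (h.odd_of_Bx hB hA (Ne.symm e) hx ha)
  exact ha1 (hy ▸ mul_mem (mul_mem (hK.conj_mem _ hb2.2 y) hb2.2) (hK.conj_mem _ hb2.2 y))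

/-- Points lie in every non-trivial normal subgroup. -/
theorem TI.le_of_normal (h : TI S) (hg : ∀ X : Subgroup G, (∀ P ∈ S, P ≤ X) → X = ⊤)
    (hF : Cfsg.fittingSubgroup G = ⊥) {K B : Subgroup G} [hK : K.Normal] (h1 : K ≠ ⊥) (hB : B ∈ S) :
    B ≤ K := by
  by_contra h2
  have h3 := h.inf_ne_bot hg hF h1 hB
  set X := K ⊔ B
  have hX : B ≤ X := le_sup_right
  have hs := h.sub hB hX
  have hB' := (mem_sub hX).2 hB
  have hc : ∀ x y : X, cm(x, y) ∈ K.subgroupOf X := fun x y =>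
    cm_mem_of_sup (fun a ha b hb => h.comm hB ha hb) x.2 y.2
  have h4 : B.subgroupOf X ⊓ K.subgroupOf X ≠ ⊥ := fun e => h3 (by
    rw [eq_bot_iff]
    intro x hx
    have : (⟨x, hX hx.1⟩ : X) ∈ B.subgroupOf X ⊓ K.subgroupOf X := hx
    rw [e, mem_bot] at this
    exact congrArg Subtype.val this)
  have h5 : ¬ B.subgroupOf X ≤ K.subgroupOf X := fun e => h2 fun x hx =>
    e (show (⟨x, hX hx⟩ : X) ∈ B.subgroupOf X from hx)
  have hn : ∀ A ∈ WTI.sub S X, ∀ A' ∈ WTI.sub S X, A ⊓ K.subgroupOf X ≤ 𝐍[A'] := fun A hA A' hA' => by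
    obtain ⟨g, rfl⟩ := hs.cls _ hB' A hA
    rw [← cj_of_normal g (K.subgroupOf X), ← cj_inf, cj_le_iff, ← normalizer_cj]
    exact hs.inf_le_norm hc hB' h4 h5 (hs.conj _ hA' _)
  haveI := hs.WK_normal (K.subgroupOf X)
  set W := (WK (WTI.sub S X) (K.subgroupOf X)).map X.subtype
  have hW : IsPGroup 2 W := (isPGroup_of_sq fun x hx => hs.WK_sq hn hx).map _
  have hWK : W ≤ K := by
    rintro _ ⟨x, hx, rfl⟩
    exact WK_le (K := K.subgroupOf X) hx
  have h6 : W ≤ pCoreOf 2 K :=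
    le_pCoreOf hW hWK (le_sup_left.trans (le_normalizer_map_subtype _))
  have h7 : pCoreOf 2 K ≤ pCoreOf 2 ⊤ := pCoreOf_mono_of_normal le_top le_normalizer_of_normal
  rw [pCoreOf_top] at h7
  have h8 : W = ⊥ := le_bot_iff.1 (hF ▸ (h6.trans h7).trans (Grp.pCore_le_fitting 2))
  refine h4 (le_bot_iff.1 ((inf_le_WK hB').trans ?_))
  rwa [map_eq_bot_iff_of_injective _ X.subtype_injective, ← le_bot_iff] at h8

/-- A group without Fitting subgroup generated by points is simple. -/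
theorem TI.simple_of_fitting (h : TI S) (hg : ∀ X : Subgroup G, (∀ P ∈ S, P ≤ X) → X = ⊤)
    (hF : Cfsg.fittingSubgroup G = ⊥) : IsSimpleGroup G ∧ ¬ IsMulCommutative G := by
  obtain ⟨B, hB⟩ := h.nonempty
  obtain ⟨b, -, hb⟩ := h.exists_ne_one hB
  haveI : Nontrivial G := ⟨b, 1, hb⟩
  refine ⟨⟨fun K hK => ?_⟩, fun hc => ?_⟩
  · by_cases h1 : K = ⊥
    · exact Or.inl h1
    · exact Or.inr (hg K fun P hP => h.le_of_normal hg hF h1 hP)
  · have := Grp.fitting_eq_top_iff.2 (Grp.isNilpotent_of_isMulCommutative G)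
    exact bot_ne_top (hF ▸ this)

theorem fitting_quot_center (hF : Cfsg.fittingSubgroup G ≤ center G) :
    Cfsg.fittingSubgroup (G ⧸ center G) = ⊥ := by
  set F := (Cfsg.fittingSubgroup (G ⧸ center G)).comap (QuotientGroup.mk' (center G))
  have hn : Group.IsNilpotent F := by
    refine Subgroup.isNilpotent_of_ker_le_center
      (((QuotientGroup.mk' (center G)).comp F.subtype).codRestrict
        (Cfsg.fittingSubgroup (G ⧸ center G)) fun x => x.2) ?_
    intro x hx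
    have : (x : G) ∈ center G := by
      rw [MonoidHom.mem_ker] at hx
      exact (QuotientGroup.eq_one_iff _).1 (congrArg Subtype.val hx)
    exact mem_center_iff.2 fun y => Subtype.ext (mem_center_iff.1 this y)
  have := (Grp.le_fitting inferInstance hn).trans hF
  rw [eq_bot_iff]
  intro x hx
  obtain ⟨y, rfl⟩ := QuotientGroup.mk_surjective x
  exact (QuotientGroup.eq_one_iff _).2 (this hx)

/-- If points meet `O₂(G)` trivially then `G / O(G)` is abelian or `G / Z(G)` has no Fitting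
subgroup. -/
theorem TI.comm_or (h : TI S) (hg : ∀ X : Subgroup G, (∀ P ∈ S, P ≤ X) → X = ⊤)
    (hO : ∀ P ∈ S, P ⊓ Cfsg.pCore 2 G = ⊥) : IsMulCommutative (G ⧸ Cfsg.oddCore G) ∨
      (Cfsg.fittingSubgroup (G ⧸ center G) = ⊥ ∧ ∀ P ∈ S, ¬ P ≤ center G) := by
  have key : ∀ K : Subgroup G, K.Normal → (∀ P ∈ S, K ≤ 𝐍[P] ∧ P ⊓ K = ⊥) → K ≤ center G := by
    intro K hK hP
    have hc : 𝐂[K] = ⊤ := hg _ fun P hP' b hb k hk => by
      have : k * b * k⁻¹ * b⁻¹ ∈ P ⊓ K :=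
        ⟨P.mul_mem (conj_mem_of_mem_normalizer ((hP P hP').1 hk) hb) (P.inv_mem hb), by
          have := mul_mem hk (hK.conj_mem _ (inv_mem hk) b)
          simpa [mul_assoc] using this⟩
      rwa [(hP P hP').2, mem_bot, mul_inv_eq_one, mul_inv_eq_iff_eq_mul] at this
    exact fun k hk => mem_center_iff.2 fun g => ((hc ▸ mem_top g : g ∈ 𝐂[K]) k hk).symm
  obtain ⟨B, hB⟩ := h.nonempty
  by_cases h2 : ∀ a ∈ B, ∀ b ∈ B, a ≠ 1 → b ≠ 1 → a = b
  · left
    have hc1 : ∀ g a : G, a ≠ 1 → g⁻¹ * a * g ≠ 1 := fun g a ha e => ha (by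
      rw [show a = g * (g⁻¹ * a * g) * g⁻¹ by group, e]; group)
    have h3 : (center (G ⧸ Cfsg.oddCore G)).comap (QuotientGroup.mk' _) = ⊤ := by
      refine hg _ fun P hP b hb => ?_
      obtain ⟨g, rfl⟩ := h.cls B hB P hP
      by_cases hb1 : b = 1
      · rw [hb1]; exact one_mem _
      have h4 : ∀ a ∈ cj(g, B), a ≠ 1 → a = b := fun a ha ha1 => by
        have := h2 _ (mem_cj.1 ha) _ (mem_cj.1 hb) (hc1 _ _ ha1) (hc1 _ _ hb1)
        simpa using this
      have hz : ∀ x, b * x * b⁻¹ * x⁻¹ ∈ Bender.Opp 2 (⊤ : Subgroup G) := fun x =>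
        Core2.zstar_amb (mem_top b) ⟨hb1, h.sq _ hP b hb⟩ (fun y _ hc => by
          have e : cj(y, cj(g, B)) = cj(g, B) := by
            refine h.wc _ (h.conj _ hP y) _ hP fun a ha => ?_
            by_cases ha1 : a = 1
            · rw [ha1]; exact one_mem _
            have : a = y * b * y⁻¹ := by
              rw [← h4 _ (mem_cj.1 ha) (hc1 _ _ ha1)]; group
            exact this ▸ h.mem_norm_of_comm hP hb hb1 hc.symm
          exact h4 _ (e ▸ conj_mem_cj y hb) (by simpa using hb1)) (mem_top x)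
      have hle : Bender.Opp 2 (⊤ : Subgroup G) ≤ Cfsg.oddCore G :=
        le_sSup ⟨normalizer_eq_top_iff.1 (eq_top_iff.2
          (le_normalizer.trans Bender.normalizer_le_normalizer_Opp)), Bender.coprime_card_Opp⟩
      refine mem_center_iff.2 fun x => ?_
      obtain ⟨x, rfl⟩ := QuotientGroup.mk_surjective x
      have := (QuotientGroup.eq_one_iff _).2 (hle (hz x))
      simp only [QuotientGroup.mk_mul, QuotientGroup.mk_inv, mul_inv_eq_iff_eq_mul] at this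
      simpa using this.symm
    refine ⟨⟨fun x y => ?_⟩⟩
    obtain ⟨x, rfl⟩ := QuotientGroup.mk_surjective x
    exact (mem_center_iff.1 (show (QuotientGroup.mk' _ x) ∈ center (G ⧸ Cfsg.oddCore G) from
      (h3 ▸ mem_top x : x ∈ (center (G ⧸ Cfsg.oddCore G)).comap (QuotientGroup.mk' _))) y).symm
  right
  push Not at h2
  obtain ⟨a, ha, b, hb, ha1, hb1, hab⟩ := h2
  have hodd : Odd (Nat.card (Cfsg.oddCore G)) :=
    Nat.coprime_two_right.1 (Grp.pPrimeCore_coprime 2 G)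
  have z2 : Cfsg.pCore 2 G ≤ center G := key _ inferInstance fun P hP =>
    ⟨h.le_norm_of_norm hP (isPGroup_pCore' 2 G) le_normalizer_of_normal, hO P hP⟩
  have hOB : Cfsg.oddCore G ≤ 𝐍[B] := by
    have hn : ∀ x : G, x ∈ 𝐍[Cfsg.oddCore G] := fun x => le_normalizer_of_normal (mem_top x)
    have k : ∀ x ∈ B, x ≠ 1 → Cfsg.oddCore G ⊓ centralizer {x} ≤ 𝐍[B] := fun x hx hx1 y hy =>
      h.mem_norm_of_comm hB hx hx1 (mem_centralizer_singleton_iff.1 hy.2)
    refine Gold.Int.le_of_four hodd (hn a) (hn b) (h.sq B hB a ha ▸ one_mem _) (h.sq B hB b hb ▸ one_mem _)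
      (by rw [h.comm hB ha hb]; simp [one_mem]) (k a ha ha1) (k b hb hb1) (k _ (mul_mem ha hb) ?_)
    intro e
    exact hab (by rw [eq_inv_of_mul_eq_one_left e, h.inv_eq hB hb])
  have z1 : Cfsg.oddCore G ≤ center G := key _ inferInstance fun P hP => by
    obtain ⟨g, rfl⟩ := h.cls B hB P hP
    refine ⟨by rw [normalizer_cj, ← cj_of_normal g (Cfsg.oddCore G)]; exact cj_mono g hOB, ?_⟩
    rw [eq_bot_iff]
    intro x hx
    refine eq_one_of_isPGroup_of_coprime (h.pgroup hP) hx.1 ?_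
    exact Nat.Coprime.coprime_dvd_left (orderOf_dvd_natCard _ hx.2) (Nat.coprime_two_right.2 hodd)
  refine ⟨fitting_quot_center ((Grp.fitting_le_pCore_sup_pPrimeCore 2).trans (sup_le z2 z1)),
    fun P hP hc => h.ne P hP ?_⟩
  haveI : P.Normal := ⟨fun x hx g => by
    rw [mem_center_iff.1 (hc hx) g, mul_inv_cancel_right]; exact hx⟩
  rw [← hO P hP, left_eq_inf]
  exact le_pCore' (h.pgroup hP)

end Cfsg.Agent.WTI
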